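import Cfsg.Agent.Lib.FourFree.Stellmacher.Gen
import Cfsg.Agent.Lib.FourFree.Config.Triangle

/-!
# Twisted flags

A twisted flag of `X` on the module `W` is a subgroup `P` with `[W, X] ≤ P`, together with a module `V`
of a group `L = ⟨A, A ^ g⟩` which is the sum of two halves `C`, `σ g C`, a form `f` on `V` with values
in `W`, and identifications `ψ : P → C`, `φ : X → V / C`, `top : W / P → A`, such that `[p, x] = f (ψ p) (φ x)`
and `ψ [w, x] = [φ x, top w]`.  Such a flag is what the pair `(F, F ^ g)` of a weakly closed good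
subgroup outside `O₂` leaves on `F`.  `NoFlag` says that there is none.
-/

set_option autoImplicit false
set_option linter.style.haveILetI false

open Subgroup
open CfsgLib.Fusion (conjBy)
open CfsgLib.CFun (delt fixOf)

namespace CfsgLib.FourFree

universe u

/-- A twisted flag `(P, V, C, f)` of `X` on `W`. -/
structure Twist {H W : Type u} [Group H] [CommGroup W] (ρ : H →* MulAut W) (X : Subgroup H)
    (P : Subgroup W) {L V : Type u} [Group L] [CommGroup V] (σ : L →* MulAut V) where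
  /-- the half fixed by `A` -/
  C : Subgroup V
  /-- the top acting on `V` -/
  A : Subgroup L
  /-- an element giving the other half -/
  g : L
  /-- the form -/
  f : V → V → W
  /-- `P → C` -/
  ψ : W → V
  /-- `X → V / C` -/
  φ : H → V
  /-- `W / P → A` -/
  top : W →* L
  two : ∀ w : W, w * w = 1
  ne_bot : C ≠ ⊥
  twoV : ∀ v : V, v * v = 1
  gen : A ⊔ conjBy g A = ⊤
  sqA : ∀ a ∈ A, a * a = 1
  quad : ∀ a ∈ A, ∀ v : V, delt σ a v ∈ C
  fixC : ∀ a ∈ A, ∀ c ∈ C, σ a c = c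
  fix : ∀ a ∈ A, a ≠ 1 → ∀ v : V, σ a v = v → v ∈ C
  disj : ∀ c ∈ C, σ g c ∈ C → c = 1
  card : Nat.card V = Nat.card C * Nat.card C
  f_mul : ∀ u v v' : V, f u (v * v') = f u v * f u v'
  f_symm : ∀ u v : V, f u v = f v u
  f_self : ∀ u : V, f u u = 1
  f_isotropic : ∀ u ∈ C, ∀ v ∈ C, f u v = 1
  f_inv : ∀ (l : L) (u v : V), f (σ l u) (σ l v) = f u v
  twist : ∀ a ∈ A, ∀ u v : V, f (delt σ a u) v = f (delt σ a v) u
  twist_self : ∀ a ∈ A, ∀ u : V, f (delt σ a u) u = 1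
  f_mem : ∀ u v : V, f u v ∈ P
  f_fix : ∀ x ∈ X, ∀ u v : V, ρ x (f u v) = f u v
  ψ_f : ∀ u v : V, ψ (f u v) = 1
  ψ_mem : ∀ p ∈ P, ψ p ∈ C
  ψ_mul : ∀ p ∈ P, ∀ q ∈ P, ψ (p * q) = ψ p * ψ q
  φ_mul : ∀ x ∈ X, ∀ y ∈ X, φ (x * y) * φ x * φ y ∈ C
  φ_inj : ∀ x ∈ X, φ x ∈ C → x = 1
  φ_surj : ∀ v : V, ∃ x ∈ X, φ x * v ∈ C
  top_mem : ∀ w : W, top w ∈ A
  top_eq : ∀ w : W, top w = 1 ↔ w ∈ P
  step : ∀ x ∈ X, ∀ w : W, delt ρ x w ∈ P
  mid : ∀ x ∈ X, ∀ w : W, ψ (delt ρ x w) = delt σ (top w) (φ x)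
  bot : ∀ x ∈ X, ∀ p ∈ P, delt ρ x p = f (ψ p) (φ x)
  big : ∀ N : Subgroup V, (∀ l : L, ∀ v ∈ N, σ l v ∈ N) → N ≠ ⊥ →
    P.index ^ 2 ≤ Nat.card (N ⊓ C : Subgroup V)
  rad_big : ∀ K : Subgroup W, (∃ u v : V, f u v ∉ K) →
    ∀ R : Subgroup V, (∀ v : V, v ∈ R ↔ ∀ u : V, f v u ∈ K) →
    2 * P.index ^ 2 ≤ R.relIndex C

/-- No subgroup of `T` has a twisted flag on `W`. -/
def NoFlag {H W : Type u} [Group H] [CommGroup W] (ρ : H →* MulAut W) (T : Subgroup H) : Prop :=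
  ∀ (X : Subgroup H), X ≤ T → ∀ (P : Subgroup W), P ≠ ⊤ →
    ∀ (L V : Type u) [Group L] [CommGroup V] [Finite L] [Finite V] (σ : L →* MulAut V),
      Twist ρ X P σ → False

/-- No subgroup of `T` has a twisted flag on the `T`-invariant subgroup `U` of `W`. -/
def NoFlagOn {H W : Type u} [Group H] [CommGroup W] (ρ : H →* MulAut W) (T : Subgroup H)
    (U : Subgroup W) : Prop :=
  ∀ (H' : Type u) [Group H'] [Finite H'] (ρ' : H' →* MulAut U) (π : T →* H'),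
    (∀ (t : T) (x : U), ((ρ' (π t) x : U) : W) = ρ (t : H) x) → NoFlag ρ' π.range

end CfsgLib.FourFree
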