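import Cfsg.Agent.Lib.FourFree.Twist.Basic

/-!
# First properties of twisted flags, and transport

`Twist.comap` pulls a flag back along an equivariant embedding `j : W' → W` whose image is not
contained in `P`.
-/

set_option autoImplicit false
set_option linter.style.haveILetI false

open Subgroup
open CfsgLib.Fusion (conjBy)
open CfsgLib.CFun (delt fixOf delt_apply delt_mul_left delt_one_right)

namespace CfsgLib.FourFree

universe u

variable {H W L V : Type u} [Group H] [CommGroup W] [Group L] [CommGroup V] {ρ : H →* MulAut W}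
  {X : Subgroup H} {P : Subgroup W} {σ : L →* MulAut V}

namespace Twist

variable (hT : Twist ρ X P σ)
include hT

theorem inv_eq (w : W) : w⁻¹ = w := inv_eq_of_mul_eq_one_right (hT.two w)

theorem inv_eqV (v : V) : v⁻¹ = v := inv_eq_of_mul_eq_one_right (hT.twoV v)

theorem f_mul_left (u u' v : V) : hT.f (u * u') v = hT.f u v * hT.f u' v := by
  rw [hT.f_symm, hT.f_mul, hT.f_symm v u, hT.f_symm v u']

theorem f_one_right (u : V) : hT.f u 1 = 1 := by
  have h := hT.f_mul u 1 1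
  rw [mul_one] at h
  exact left_eq_mul.1 h

theorem f_one_left (v : V) : hT.f 1 v = 1 := by rw [hT.f_symm, hT.f_one_right]

theorem ψ_one : hT.ψ 1 = 1 := by
  have h := hT.ψ_mul 1 (one_mem P) 1 (one_mem P)
  rw [mul_one] at h
  exact left_eq_mul.1 h

/-- `f` is isotropic on the second half. -/
theorem f_isotropic_g {c d : V} (hc : c ∈ hT.C) (hd : d ∈ hT.C) :
    hT.f (σ hT.g c) (σ hT.g d) = 1 := by rw [hT.f_inv, hT.f_isotropic c hc d hd]

/-- Every vector splits along the two halves. -/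
theorem decomp [Finite V] (v : V) : ∃ c ∈ hT.C, ∃ d ∈ hT.C, v = c * σ hT.g d := by
  let F : hT.C × hT.C → V := fun p => (p.1 : V) * σ hT.g p.2
  have hF : Function.Injective F := by
    rintro ⟨⟨a, ha⟩, ⟨b, hb⟩⟩ ⟨⟨a', ha'⟩, ⟨b', hb'⟩⟩ e
    have h1 : σ hT.g (b / b') = a' / a := by
      have e' : a * σ hT.g b = a' * σ hT.g b' := e
      rw [map_div, div_eq_div_iff_mul_eq_mul, mul_comm (σ hT.g b) a, e', mul_comm]
    have h2 := hT.disj (b / b') (div_mem hb hb') (h1 ▸ div_mem ha' ha)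
    rw [h2, map_one] at h1
    obtain rfl := div_eq_one.1 h1.symm
    obtain rfl := div_eq_one.1 h2
    rfl
  obtain ⟨⟨c, d⟩, e⟩ := ((Nat.bijective_iff_injective_and_card F).2
    ⟨hF, by rw [Nat.card_prod, hT.card]⟩).2 v
  exact ⟨c, c.2, d, d.2, e.symm⟩

/-- A non-trivial element of `A` maps `V` onto `C`. -/
theorem delt_onto [Finite V] {a : L} (ha : a ∈ hT.A) (ha1 : a ≠ 1) {c : V} (hc : c ∈ hT.C) :
    ∃ v, delt σ a v = c := by
  let d : V →* V := MonoidHom.mk' (delt σ a) (delt_mul_left (ρ := σ) a)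
  have hk : d.ker = hT.C := by
    ext v
    refine ⟨fun hv => hT.fix a ha ha1 v (div_eq_one.1 hv), fun hv => div_eq_one.2 (hT.fixC a ha v hv)⟩
  have hle : d.range ≤ hT.C := by rintro _ ⟨v, rfl⟩; exact hT.quad a ha v
  have hr : d.range = hT.C := by
    refine eq_of_le_of_card_ge hle (le_of_eq ?_)
    have h := d.ker.card_mul_index
    rw [index_ker, hk, hT.card] at h
    exact (Nat.eq_of_mul_eq_mul_left Nat.card_pos h).symm
  exact hr.ge hc

/-- A non-trivial element of `A` maps the image of `X` onto `C`. -/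
theorem delt_surj [Finite V] {a : L} (ha : a ∈ hT.A) (ha1 : a ≠ 1) {c : V} (hc : c ∈ hT.C) :
    ∃ x ∈ X, delt σ a (hT.φ x) = c := by
  obtain ⟨v, rfl⟩ := hT.delt_onto ha ha1 hc
  obtain ⟨x, hx, hxv⟩ := hT.φ_surj v
  refine ⟨x, hx, ?_⟩
  have h : delt σ a (hT.φ x * v) = 1 := div_eq_one.2 (hT.fixC a ha _ hxv)
  rw [delt_mul_left] at h
  exact (eq_inv_of_mul_eq_one_left h).trans (hT.inv_eqV _)

theorem top_ne {b : W} (hb : b ∉ P) : hT.top b ≠ 1 := fun e => hb ((hT.top_eq b).1 e)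

/-- `ψ` maps `[b, X]` onto `C`. -/
theorem ψ_delt_surj [Finite V] {b : W} (hb : b ∉ P) {c : V} (hc : c ∈ hT.C) :
    ∃ x ∈ X, hT.ψ (delt ρ x b) = c := by
  obtain ⟨x, hx, hxc⟩ := hT.delt_surj (hT.top_mem b) (hT.top_ne hb) hc
  exact ⟨x, hx, by rw [hT.mid x hx b, hxc]⟩

/-- `ψ` maps `P` onto `C`. -/
theorem ψ_surj [Finite V] (hP : P ≠ ⊤) {c : V} (hc : c ∈ hT.C) : ∃ p ∈ P, hT.ψ p = c := by
  obtain ⟨b, hb⟩ := not_forall.1 fun h => hP ((Subgroup.eq_top_iff' P).2 h)
  obtain ⟨x, hx, hxc⟩ := hT.ψ_delt_surj hb hc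
  exact ⟨_, hT.step x hx b, hxc⟩

/-- An element of `X` fixing a vector outside `P` is trivial. -/
theorem eq_one_of_fix {b : W} (hb : b ∉ P) {x : H} (hx : x ∈ X) (h : ρ x b = b) : x = 1 := by
  refine hT.φ_inj x hx (hT.fix _ (hT.top_mem b) (hT.top_ne hb) _ (div_eq_one.1 ?_))
  have hm := hT.mid x hx b
  rw [delt, h, div_self', hT.ψ_one] at hm
  exact hm.symm

/-- `X` acts faithfully. -/
theorem faithful (hP : P ≠ ⊤) {x : H} (hx : x ∈ X) (h : ρ x = 1) : x = 1 := by
  obtain ⟨b, hb⟩ := not_forall.1 fun h => hP ((Subgroup.eq_top_iff' P).2 h)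
  exact hT.eq_one_of_fix hb hx (by rw [h, MulAut.one_apply])

/-- The form against a vector only depends on it modulo `C`. -/
theorem f_φ {c v : V} (hc : c ∈ hT.C) {x : H} (hxv : hT.φ x * v ∈ hT.C) :
    hT.f c v = hT.f c (hT.φ x) := by
  have h := hT.f_isotropic c hc _ hxv
  rw [hT.f_mul] at h
  exact (eq_inv_of_mul_eq_one_right h).trans (hT.inv_eq _)

/-- The values of the form lie in every invariant subgroup outside `P`. -/
theorem f_mem_of_invariant [Finite V] {U : Subgroup W} (hU : ∀ x ∈ X, ∀ w ∈ U, ρ x w ∈ U)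
    {b : W} (hbU : b ∈ U) (hb : b ∉ P) (u v : V) : hT.f u v ∈ U := by
  have key : ∀ c ∈ hT.C, ∀ w : V, hT.f c w ∈ U := by
    intro c hc w
    obtain ⟨x, hx, rfl⟩ := hT.ψ_delt_surj hb hc
    obtain ⟨y, hy, hyw⟩ := hT.φ_surj w
    have hp : delt ρ x b ∈ U := div_mem (hU x hx b hbU) hbU
    rw [hT.f_φ hc hyw, ← hT.bot y hy _ (hT.step x hx b)]
    exact div_mem (hU y hy _ hp) hp
  obtain ⟨c, hc, d, hd, rfl⟩ := hT.decomp u
  obtain ⟨c', hc', d', hd', rfl⟩ := hT.decomp v
  rw [hT.f_mul_left, hT.f_mul (σ hT.g d), hT.f_isotropic_g hd hd', mul_one,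
    hT.f_symm (σ hT.g d) c']
  exact mul_mem (key c hc _) (key c' hc' _)

end Twist

section comap

variable (hT : Twist ρ X P σ) {H' W' : Type u} [Group H'] [CommGroup W'] {ρ' : H' →* MulAut W'}
  {j : W' →* W} {π : X →* H'}

theorem Twist.f_mem_range [Finite V] (hjP : ¬ j.range ≤ P)
    (hc : ∀ (x : X) (w : W'), j (ρ' (π x) w) = ρ (x : H) (j w)) (u v : V) :
    ∃ w, j w = hT.f u v := by
  obtain ⟨b, hbr, hb⟩ := SetLike.not_le_iff_exists.1 hjP
  refine hT.f_mem_of_invariant (U := j.range) ?_ hbr hb u v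
  rintro x hx _ ⟨w, rfl⟩
  exact ⟨_, hc ⟨x, hx⟩ w⟩

theorem Twist.injective_π (hT : Twist ρ X P σ) (hjP : ¬ j.range ≤ P)
    (hc : ∀ (x : X) (w : W'), j (ρ' (π x) w) = ρ (x : H) (j w)) : Function.Injective π := by
  obtain ⟨b, ⟨w, rfl⟩, hb⟩ := SetLike.not_le_iff_exists.1 hjP
  refine (injective_iff_map_eq_one π).2 fun x hx => Subtype.ext ?_
  refine hT.eq_one_of_fix hb x.2 ?_
  rw [← hc x w, hx, map_one, MulAut.one_apply]

theorem Twist.comap_ne_top (hjP : ¬ j.range ≤ P) : P.comap j ≠ ⊤ := fun e => hjP (by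
  rintro _ ⟨w, rfl⟩
  exact (e ▸ mem_top w : w ∈ P.comap j))

open Classical in
/-- The flag induced on the module of an equivariant embedding. -/
noncomputable def Twist.comap [Finite V] [Finite W] (hj : Function.Injective j) (hjP : ¬ j.range ≤ P)
    (hc : ∀ (x : X) (w : W'), j (ρ' (π x) w) = ρ (x : H) (j w)) :
    Twist ρ' π.range (P.comap j) σ :=
  let φ' : H' → V := fun y => if h : ∃ x : X, π x = y then hT.φ (h.choose : H) else 1
  let f' : V → V → W' := fun u v => (hT.f_mem_range hjP hc u v).choose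
  have hf : ∀ u v, j (f' u v) = hT.f u v := fun u v => (hT.f_mem_range hjP hc u v).choose_spec
  have hφ : ∀ x : X, φ' (π x) = hT.φ (x : H) := fun x => by
    have h : ∃ x' : X, π x' = π x := ⟨x, rfl⟩
    simp only [φ', dif_pos h]
    rw [hT.injective_π hjP hc h.choose_spec]
  have hd : ∀ (x : X) (w : W'), j (delt ρ' (π x) w) = delt ρ (x : H) (j w) := fun x w => by
    rw [delt, delt, map_div, hc]
  { C := hT.C
    A := hT.A
    g := hT.g
    f := f'
    ψ := fun w => hT.ψ (j w)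
    φ := φ'
    top := hT.top.comp j
    two := fun w => hj (by rw [map_mul, hT.two, map_one])
    ne_bot := hT.ne_bot
    twoV := hT.twoV
    gen := hT.gen
    sqA := hT.sqA
    quad := hT.quad
    fixC := hT.fixC
    fix := hT.fix
    disj := hT.disj
    card := hT.card
    f_mul := fun u v v' => hj (by rw [map_mul, hf, hf, hf, hT.f_mul])
    f_symm := fun u v => hj (by rw [hf, hf, hT.f_symm])
    f_self := fun u => hj (by rw [hf, hT.f_self, map_one])
    f_isotropic := fun u hu v hv => hj (by rw [hf, hT.f_isotropic u hu v hv, map_one])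
    f_inv := fun l u v => hj (by rw [hf, hf, hT.f_inv])
    twist := fun a ha u v => hj (by rw [hf, hf, hT.twist a ha])
    twist_self := fun a ha u => hj (by rw [hf, hT.twist_self a ha, map_one])
    f_mem := fun u v => show j (f' u v) ∈ P by rw [hf]; exact hT.f_mem u v
    f_fix := by
      rintro _ ⟨x, rfl⟩ u v
      exact hj (by rw [hc, hf, hT.f_fix _ x.2])
    ψ_f := fun u v => show hT.ψ (j (f' u v)) = 1 by rw [hf]; exact hT.ψ_f u v
    ψ_mem := fun p hp => hT.ψ_mem _ hp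
    ψ_mul := fun p hp q hq => show hT.ψ (j (p * q)) = _ by rw [map_mul]; exact hT.ψ_mul _ hp _ hq
    φ_mul := by
      rintro _ ⟨x, rfl⟩ _ ⟨y, rfl⟩
      rw [← map_mul, hφ, hφ, hφ]
      exact hT.φ_mul _ x.2 _ y.2
    φ_inj := by
      rintro _ ⟨x, rfl⟩ h
      rw [hφ] at h
      rw [show x = 1 from Subtype.ext (hT.φ_inj _ x.2 h), map_one]
    φ_surj := fun v => by
      obtain ⟨x, hx, h⟩ := hT.φ_surj v
      exact ⟨π ⟨x, hx⟩, ⟨_, rfl⟩, by rwa [hφ]⟩
    top_mem := fun w => hT.top_mem (j w)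
    top_eq := fun w => hT.top_eq (j w)
    step := by
      rintro _ ⟨x, rfl⟩ w
      show j _ ∈ P
      rw [hd]
      exact hT.step _ x.2 _
    mid := by
      rintro _ ⟨x, rfl⟩ w
      show hT.ψ (j _) = delt σ (hT.top (j w)) _
      rw [hd, hφ]
      exact hT.mid _ x.2 _
    bot := by
      rintro _ ⟨x, rfl⟩ p hp
      refine hj ?_
      rw [hd, hφ, hf]
      exact hT.bot _ x.2 _ hp
    big := fun N hN hN1 => le_trans (Nat.pow_le_pow_left (by
      rw [index_comap]
      exact Nat.le_of_dvd (Nat.pos_of_ne_zero index_ne_zero_of_finite)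
        (relIndex_dvd_index_of_normal P j.range)) 2) (hT.big N hN hN1)
    rad_big := fun K hK R hR => by
      have hmem : ∀ u v, hT.f u v ∈ K.map j ↔ f' u v ∈ K := fun u v => by
        rw [← hf u v, Subgroup.mem_map_iff_mem hj]
      refine le_trans (Nat.mul_le_mul_left 2 (Nat.pow_le_pow_left ?_ 2)) (hT.rad_big (K.map j) ?_ R ?_)
      · rw [index_comap]
        exact Nat.le_of_dvd (Nat.pos_of_ne_zero index_ne_zero_of_finite)
          (relIndex_dvd_index_of_normal P j.range)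
      · obtain ⟨u, v, huv⟩ := hK
        exact ⟨u, v, fun h => huv ((hmem u v).1 h)⟩
      · exact fun v => by rw [hR v]; simp only [hmem] }

/-- A subgroup without flags has none on the modules embedded equivariantly. -/
theorem NoFlag.not_le {T : Subgroup H'} (hn : NoFlag ρ' T) [Finite W] [Finite L] [Finite V]
    (hT : Twist ρ X P σ) (hj : Function.Injective j)
    (hc : ∀ (x : X) (w : W'), j (ρ' (π x) w) = ρ (x : H) (j w)) (hπ : π.range ≤ T) :
    j.range ≤ P := by
  by_contra hjP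
  exact hn _ hπ _ (Twist.comap_ne_top hjP) L V σ (hT.comap hj hjP hc)

end comap

end CfsgLib.FourFree
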