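import Cfsg.Agent.Lib.FourFree.Basics
import Cfsg.Agent.Lib.PGroup.Subnormalizer
import Cfsg.Agent.Lib.Fusion.ZJ

/-!
# Control of the overgroups of members of a family of `2`-subgroups

`Mem` is a family of subgroups of a Sylow `2`-subgroup `S`, closed under conjugation inside `S`,
`J R` is the join of the members inside `R`.  If every proper subgroup whose Sylow part normalizing
`J` is controlled by `St` is itself inside `St`, then every proper subgroup containing a member lies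
in `St` and a member generates with each conjugate from outside `St`.
-/

set_option autoImplicit false
set_option linter.style.haveILetI false

open Subgroup
open CfsgLib.Fusion (conjBy mem_conjBy conj_mem_conjBy conjBy_le_iff conjBy_eq_iff conjBy_mono
  conjBy_conjBy conjBy_inv_conjBy conjBy_conjBy_inv card_conjBy)

namespace CfsgLib.FourFree

universe u

variable {G : Type u} [Group G]

/-- The join of the members inside `R`. -/
def joinIn (Mem : Subgroup G → Prop) (R : Subgroup G) : Subgroup G :=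
  sSup {X | Mem X ∧ X ≤ R}

theorem joinIn_le (Mem : Subgroup G → Prop) (R : Subgroup G) : joinIn Mem R ≤ R :=
  sSup_le fun _ hX => hX.2

theorem le_joinIn {Mem : Subgroup G → Prop} {X R : Subgroup G} (hX : Mem X) (hle : X ≤ R) :
    X ≤ joinIn Mem R :=
  le_sSup ⟨hX, hle⟩

/-- A family closed under conjugation inside `S`. -/
structure Climb (S : Subgroup G) (Mem : Subgroup G → Prop) (St : Subgroup G) : Prop where
  le : ∀ X, Mem X → X ≤ S
  conj : ∀ X g, Mem X → conjBy g X ≤ S → Mem (conjBy g X)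
  le_St : S ≤ St
  norm : normalizer (joinIn Mem S : Set G) ≤ St
  ne_top : ∀ R : Subgroup G, R ≤ S → (∃ X, Mem X ∧ X ≤ R) →
    normalizer (joinIn Mem R : Set G) ≠ ⊤
  key : ∀ K T : Subgroup G, K ≠ ⊤ → T ≤ S → T ≤ K → ¬ 2 ∣ T.relIndex K →
    (∃ X, Mem X ∧ X ≤ T) → K ⊓ normalizer (joinIn Mem T : Set G) ≤ St → K ≤ St

variable {S St : Subgroup G} {Mem : Subgroup G → Prop}

theorem Climb.mem_normalizer (hc : Climb S Mem St) [Finite G] {R : Subgroup G} (hR : R ≤ S) {g : G}
    (hg : g ∈ normalizer (R : Set G)) : g ∈ normalizer (joinIn Mem R : Set G) := by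
  refine conjBy_eq_iff.1 (CfsgLib.Fusion.conjBy_eq_of_le ?_)
  rw [conjBy, map_le_iff_le_comap]
  refine sSup_le fun X hX => map_le_iff_le_comap.1 ?_
  have hle : conjBy g X ≤ R := (conjBy_mono hX.2).trans (conjBy_eq_iff.2 hg).le
  exact le_joinIn (hc.conj X g hX.1 (hle.trans hR)) hle

variable [Finite G]

theorem Climb.control (hc : Climb S Mem St) (hSp : IsPGroup 2 S) (hi : ¬ 2 ∣ S.index) (n : ℕ) :
    ∀ R : Subgroup G, R ≤ S → (∃ X, Mem X ∧ X ≤ R) → Nat.card S - Nat.card R = n →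
    normalizer (joinIn Mem R : Set G) ≤ St ∧ ∀ y, conjBy y R ≤ S → y ∈ St := by
  haveI : Fact (Nat.Prime 2) := ⟨Nat.prime_two⟩
  induction n using Nat.strong_induction_on with
  | _ n ih =>
  intro R hR ⟨X, hX, hXR⟩ hn
  rcases eq_or_lt_of_le hR with e | hlt
  · subst e
    exact ⟨hc.norm, fun y hy => hc.norm (hc.mem_normalizer le_rfl
      (conjBy_eq_iff.1 (CfsgLib.Fusion.conjBy_eq_of_le hy)))⟩
  have hcard : Nat.card R < Nat.card S := CfsgLib.Fusion.card_lt_card_of_lt hlt
  have larger : ∀ R' : Subgroup G, R' ≤ S → (∃ Y, Mem Y ∧ Y ≤ R') → Nat.card R < Nat.card R' →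
      normalizer (joinIn Mem R' : Set G) ≤ St ∧ ∀ y, conjBy y R' ≤ S → y ∈ St :=
    fun R' h2 h1 h3 => ih _ (by have := card_le_of_le h2; omega) R' h2 h1 rfl
  set K := normalizer (joinIn Mem R : Set G) with hK
  have hKtop : K ≠ ⊤ := hc.ne_top R hR ⟨X, hX, hXR⟩
  set R1 := S ⊓ normalizer (R : Set G) with hR1
  have hR1lt : R < R1 := CfsgLib.Subnormalizer.lt_inf_normalizer hSp hlt
  have hR1c : Nat.card R < Nat.card R1 := CfsgLib.Fusion.card_lt_card_of_lt hR1lt
  have hR1K : R1 ≤ K := fun g hg => hc.mem_normalizer hR hg.2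
  obtain ⟨T3, h13, h3K, h3p, h3i⟩ :=
    CfsgLib.Fusion.exists_le_not_dvd_relIndex (hSp.to_le (inf_le_left : R1 ≤ S)) hR1K
  have hSi : ¬ 2 ∣ S.relIndex ⊤ := by rwa [relIndex_top_right]
  obtain ⟨x, -, hx⟩ := CfsgLib.Fusion.exists_conj_le_of_not_dvd_relIndex hSp le_top hSi h3p le_top
  have hXT3 : X ≤ T3 := hXR.trans (hR1lt.le.trans h13)
  have hxM : x ∈ St :=
    (larger R1 inf_le_left ⟨X, hX, hXR.trans hR1lt.le⟩ hR1c).2 x ((conjBy_mono h13).trans hx)
  have hXx : Mem (conjBy x X) := hc.conj X x hX ((conjBy_mono hXT3).trans hx)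
  have hKM : K ≤ St := by
    have hK'top : conjBy x K ≠ ⊤ := fun e => hKtop (eq_top_of_card_eq K (by
      rw [← card_conjBy x K, e, Subgroup.card_top]))
    have hbig : Nat.card R < Nat.card (conjBy x T3) := by
      rw [card_conjBy]; exact hR1c.trans_le (card_le_of_le h13)
    have h2 := hc.key (conjBy x K) (conjBy x T3) hK'top hx (conjBy_mono h3K)
      (CfsgLib.Fusion.not_dvd_relIndex_conjBy x h3i) ⟨_, hXx, conjBy_mono hXT3⟩
      (inf_le_right.trans (larger (conjBy x T3) hx ⟨_, hXx, conjBy_mono hXT3⟩ hbig).1)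
    intro k hk
    have := mul_mem (mul_mem (inv_mem hxM) (h2 (conj_mem_conjBy (g := x) hk))) hxM
    simpa [mul_assoc] using this
  refine ⟨hKM, fun y hy => ?_⟩
  set R1' := S ⊓ normalizer (conjBy y R : Set G) with hR1'
  have hylt : conjBy y R < S := lt_of_le_of_ne hy fun e => by
    have := card_conjBy y R
    rw [e] at this
    omega
  have hR1'lt : conjBy y R < R1' := CfsgLib.Subnormalizer.lt_inf_normalizer hSp hylt
  have hback : conjBy y⁻¹ R1' ≤ K := by
    refine le_trans (conjBy_mono inf_le_right) ?_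
    rw [CfsgLib.Fusion.conjBy_normalizer, conjBy_inv_conjBy]
    exact fun g hg => hc.mem_normalizer hR hg
  obtain ⟨z, hz, hzle⟩ := CfsgLib.Fusion.exists_conj_le_of_not_dvd_relIndex h3p h3K h3i
    ((hSp.to_le (inf_le_left : R1' ≤ S)).map _) hback
  set w := x * (z * y⁻¹) with hw
  have hwle : conjBy w R1' ≤ S := by
    rw [hw, ← conjBy_conjBy, ← conjBy_conjBy]
    exact (conjBy_mono hzle).trans hx
  have hXy : Mem (conjBy y X) := hc.conj X y hX ((conjBy_mono hXR).trans hy)
  have hXw : conjBy w (conjBy y X) ≤ conjBy w R1' :=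
    conjBy_mono ((conjBy_mono hXR).trans hR1'lt.le)
  have hwM := (larger (conjBy w R1') hwle ⟨_, hc.conj _ w hXy (hXw.trans hwle), hXw⟩ (by
    rw [card_conjBy]
    exact (card_conjBy y R).symm.trans_lt (CfsgLib.Fusion.card_lt_card_of_lt hR1'lt))).2 w⁻¹
    (by rw [conjBy_inv_conjBy]; exact inf_le_left)
  have h3 := mul_mem hwM (mul_mem hxM (hKM hz))
  rw [hw] at h3
  simpa [mul_assoc] using h3

/-- A proper subgroup containing a member lies in `St`. -/
theorem Climb.le_of_ne_top (hc : Climb S Mem St) (hSp : IsPGroup 2 S) (hi : ¬ 2 ∣ S.index)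
    {K X : Subgroup G} (hX : Mem X) (hXK : X ≤ K) (hK : K ≠ ⊤) : K ≤ St := by
  haveI : Fact (Nat.Prime 2) := ⟨Nat.prime_two⟩
  obtain ⟨T4, hX4, h4K, h4p, h4i⟩ :=
    CfsgLib.Fusion.exists_le_not_dvd_relIndex (hSp.to_le (hc.le X hX)) hXK
  obtain ⟨y, -, hy⟩ := CfsgLib.Fusion.exists_conj_le_of_not_dvd_relIndex hSp le_top
    (by rwa [relIndex_top_right]) h4p le_top
  have hXy : Mem (conjBy y X) := hc.conj X y hX ((conjBy_mono hX4).trans hy)
  have hyM : y ∈ St :=
    (hc.control hSp hi _ X (hc.le X hX) ⟨X, hX, le_rfl⟩ rfl).2 y ((conjBy_mono hX4).trans hy)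
  have hK' : conjBy y K ≠ ⊤ := fun e => hK (eq_top_of_card_eq K (by
    rw [← card_conjBy y K, e, Subgroup.card_top]))
  have h2 := hc.key (conjBy y K) (conjBy y T4) hK' hy (conjBy_mono h4K)
    (CfsgLib.Fusion.not_dvd_relIndex_conjBy y h4i) ⟨_, hXy, conjBy_mono hX4⟩
    (inf_le_right.trans (hc.control hSp hi _ _ hy ⟨_, hXy, conjBy_mono hX4⟩ rfl).1)
  intro k hk
  have := mul_mem (mul_mem (inv_mem hyM) (h2 (conj_mem_conjBy (g := y) hk))) hyM
  simpa [mul_assoc] using this

/-- A member generates with each of its conjugates from outside `St`. -/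
theorem Climb.sup_conj_eq_top (hc : Climb S Mem St) (hSp : IsPGroup 2 S) (hi : ¬ 2 ∣ S.index)
    {X : Subgroup G} (hX : Mem X) {h : G} (hh : h ∉ St) : X ⊔ conjBy h X = ⊤ := by
  haveI : Fact (Nat.Prime 2) := ⟨Nat.prime_two⟩
  by_contra hne
  have hle : conjBy h X ≤ St :=
    (le_sup_right : conjBy h X ≤ X ⊔ conjBy h X).trans (hc.le_of_ne_top hSp hi hX le_sup_left hne)
  obtain ⟨l, hl, hle'⟩ := CfsgLib.Fusion.exists_conj_le_of_not_dvd_relIndex hSp hc.le_St
    (fun hd => hi (hd.trans (relIndex_dvd_index_of_le hc.le_St)))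
    ((hSp.to_le (hc.le X hX)).map _) hle
  rw [conjBy_conjBy] at hle'
  have := (hc.control hSp hi _ X (hc.le X hX) ⟨X, hX, le_rfl⟩ rfl).2 _ hle'
  exact hh (by simpa using mul_mem (inv_mem hl) this)

end CfsgLib.FourFree
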