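import Cfsg.Agent.Lib.FourFree.Sections
import Cfsg.Agent.Lib.Fusion.Residual

/-!
# An irreducible section at the top of a module generated by a `S`-invariant subgroup

`W` is generated by the translates of `V₀`, invariant under the Sylow `2`-subgroup `S`, and the group
is not a `2`-group.  Then there are invariant `W' ≤ Y` with `Y / W'` irreducible and non-trivial,
`Y V₀ = W`, no non-trivial fixed point in `W / W'`, and an element of `V₀ ∩ Y` outside `W'` fixed by
`S` modulo `W'`.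
-/

set_option autoImplicit false
set_option linter.style.haveILetI false

open Subgroup
open CfsgLib.CFun (delt fixOf mem_fixOf delt_apply delt_mul_left delt_mul delt_one_right
  delt_inv_right)

namespace CfsgLib.FourFree

universe u v

variable {G : Type u} {W : Type v} [Group G] [CommGroup W] {ρ : G →* MulAut W}

/-- The subgroup of elements moving `w` only inside the invariant subgroup `D`. -/
def stabMod (ρ : G →* MulAut W) (D : Subgroup W) (hD : ∀ g, ∀ u ∈ D, ρ g u ∈ D) (w : W) :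
    Subgroup G where
  carrier := {g | delt ρ g w ∈ D}
  one_mem' := by
    show delt ρ 1 w ∈ D
    simp [delt]
  mul_mem' := fun {a b} ha hb => by
    show delt ρ (a * b) w ∈ D
    rw [delt_mul ρ]
    exact mul_mem ha (hD a _ hb)
  inv_mem' := fun {a} ha => by
    show delt ρ a⁻¹ w ∈ D
    have e : delt ρ a⁻¹ w = (ρ a⁻¹ (delt ρ a w))⁻¹ := by
      simp [delt, map_div, apply_inv_apply]
    rw [e]
    exact inv_mem (hD _ _ ha)

/-- In exponent two a commutator with an element of odd order is one with a commutator. -/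
theorem exists_delt_delt (h2 : ∀ x : W, x * x = 1) {d : G} (hd : Odd (orderOf d)) (w : W) :
    ∃ v : W, delt ρ d w = delt ρ d (delt ρ d v) := by
  set n := orderOf d with hn
  have hsq : ∀ x : W, x⁻¹ = x := fun x => inv_eq_of_mul_eq_one_right (h2 x)
  let s : ℕ → W := fun i => ∏ j ∈ Finset.range i, ρ (d ^ j) w
  have hs : ∀ i, delt ρ d (s i) = delt ρ (d ^ i) w := by
    intro i
    induction i with
    | zero => simp [s, delt]
    | succ i ih =>
      have e1 : s (i + 1) = s i * ρ (d ^ i) w := Finset.prod_range_succ _ _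
      rw [e1, delt_mul_left, ih, pow_succ', delt_mul ρ]
      simp only [delt, map_div, MulAut.mul_apply]
      rw [div_mul_div_cancel', div_mul_div_cancel']
  have hfix : delt ρ d (s n) = 1 := by rw [hs, hn, pow_orderOf_eq_one]; simp [delt]
  refine ⟨∏ j ∈ Finset.range n, s j, ?_⟩
  have h1 : delt ρ d (∏ j ∈ Finset.range n, s j) = ∏ j ∈ Finset.range n, delt ρ d (s j) :=
    map_prod (MonoidHom.mk' (delt ρ d) (delt_mul_left ρ d)) _ _
  have h3 : delt ρ d (∏ j ∈ Finset.range n, s j) = s n * w := by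
    rw [h1, show w = ∏ _j ∈ Finset.range n, w by
      rw [Finset.prod_const, Finset.card_range]
      obtain ⟨m, hm⟩ := hd
      rw [hm, pow_succ, pow_mul, pow_two, h2, one_pow, one_mul], ← Finset.prod_mul_distrib]
    exact Finset.prod_congr rfl fun j _ => by
      rw [hs, delt, div_eq_mul_inv, hsq]
  rw [h3, delt_mul_left, hfix, one_mul]

variable [Finite G] [Finite W]

/-- The section at the top. -/
theorem exists_top_section (hρ : Function.Injective ρ) (h2 : ∀ x : W, x * x = 1) (S : Sylow 2 G)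
    (hS : (S : Subgroup G) ≠ ⊤) {V0 : Subgroup W} (hV0 : (S : Subgroup G) ≤ setFix ρ V0)
    (hgen : transl ρ ⊤ V0 = ⊤) :
    ∃ Y W' : Subgroup W, (∀ g, ∀ u ∈ Y, ρ g u ∈ Y) ∧ (∀ g, ∀ u ∈ W', ρ g u ∈ W') ∧ W' ≤ Y ∧
      Y ⊔ V0 = ⊤ ∧
      (∀ D : Subgroup W, (∀ g, ∀ u ∈ D, ρ g u ∈ D) → W' ≤ D → D ≤ Y → D = W' ∨ D = Y) ∧
      (∃ g : G, ∃ u ∈ Y, delt ρ g u ∉ W') ∧
      (∀ w : W, (∀ g, delt ρ g w ∈ W') → w ∈ W') ∧
      ∃ w ∈ V0 ⊓ Y, w ∉ W' ∧ ∀ s ∈ (S : Subgroup G), delt ρ s w ∈ W' := by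
  classical
  haveI : Fact (Nat.Prime 2) := ⟨Nat.prime_two⟩
  set R := Cfsg.pResidual 2 G with hR
  have hsup : R ⊔ (S : Subgroup G) = ⊤ := CfsgLib.Fusion.pResidual_sup_sylow S
  set W1 := closure {v : W | ∃ d : G, Odd (orderOf d) ∧ ∃ x : W, delt ρ d x = v} with hW1
  have hW1inv : ∀ g, ∀ u ∈ W1, ρ g u ∈ W1 := by
    intro g u hu
    have : W1 ≤ W1.comap (ρ g : W ≃* W).toMonoidHom := by
      refine (closure_le _).2 ?_
      rintro _ ⟨d, hd, x, rfl⟩
      refine subset_closure ⟨g * d * g⁻¹, ?_, ρ g x, ?_⟩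
      · rwa [show g * d * g⁻¹ = MulAut.conj g d from rfl, MulEquiv.orderOf_eq]
      · simp only [delt, MulEquiv.coe_toMonoidHom, map_div, map_mul, MulAut.mul_apply,
          apply_inv_apply]
    exact this hu
  have hodd : ∀ g : G, Nat.Coprime (orderOf g) 2 → Odd (orderOf g) := fun g h =>
    Nat.coprime_two_right.1 h
  have hW1ne : W1 ≠ ⊥ := by
    intro e
    refine hS (top_le_iff.1 (hsup.ge.trans (sup_le ?_ le_rfl)))
    refine (closure_le _).2 fun d hd => ?_
    have : d = 1 := hρ (MulEquiv.ext fun x => by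
      rw [map_one, MulAut.one_apply]
      exact div_eq_one.1 (mem_bot.1 (e ▸ subset_closure ⟨d, hodd d hd, x, rfl⟩)))
    rw [this]
    exact one_mem _
  obtain ⟨W', ⟨hW', hW'1⟩, hmax⟩ := (Set.toFinite
    {D : Subgroup W | (∀ g, ∀ u ∈ D, ρ g u ∈ D) ∧ ¬ W1 ≤ D}).exists_maximal
    ⟨⊥, fun g u hu => by rw [mem_bot.1 hu, map_one]; exact one_mem _,
      fun h => hW1ne (le_bot_iff.1 h)⟩
  set Y := W1 ⊔ W' with hY
  have hYinv : ∀ g, ∀ u ∈ Y, ρ g u ∈ Y := by
    intro g u hu
    have : Y ≤ Y.comap (ρ g : W ≃* W).toMonoidHom :=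
      sup_le (fun x hx => mem_sup_left (hW1inv g x hx)) (fun x hx => mem_sup_right (hW' g x hx))
    exact this hu
  have habove : ∀ D : Subgroup W, (∀ g, ∀ u ∈ D, ρ g u ∈ D) → W' ≤ D → D ≠ W' → Y ≤ D := by
    intro D hD hle hne
    by_contra hYD
    exact hne (le_antisymm (hmax ⟨hD, fun h => hYD (sup_le h hle)⟩ hle) hle)
  have hnt : ∃ g : G, ∃ u ∈ Y, delt ρ g u ∉ W' := by
    by_contra h
    push Not at h
    refine hW'1 ((closure_le _).2 ?_)
    rintro _ ⟨d, hd, x, rfl⟩
    obtain ⟨y, hy⟩ := exists_delt_delt (ρ := ρ) h2 hd x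
    rw [hy]
    exact h d _ (mem_sup_left (subset_closure ⟨d, hd, y, rfl⟩))
  have hnofix : ∀ w : W, (∀ g, delt ρ g w ∈ W') → w ∈ W' := by
    intro w hw
    let D : Subgroup W :=
      { carrier := {u | ∀ g, delt ρ g u ∈ W'}
        one_mem' := fun g => by rw [delt_one_right]; exact one_mem W'
        mul_mem' := fun hu hu' g => by rw [delt_mul_left]; exact mul_mem (hu g) (hu' g)
        inv_mem' := fun hu g => by rw [delt_inv_right]; exact inv_mem (hu g) }
    have hD : ∀ g, ∀ u ∈ D, ρ g u ∈ D := fun g u hu k => by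
      have e : delt ρ k (ρ g u) = ρ g (delt ρ (g⁻¹ * k * g) u) := by
        simp only [delt, map_div, map_mul, MulAut.mul_apply, apply_apply_inv]
      rw [e]; exact hW' g _ (hu _)
    by_contra hwW
    obtain ⟨g, u, hu, hgu⟩ := hnt
    exact hgu (habove D hD (fun u hu g => div_mem (hW' g u hu) hu)
      (fun e => hwW (e ▸ (show w ∈ D from hw))) hu g)
  have hWY : Y ⊔ V0 = ⊤ := by
    refine top_le_iff.1 (hgen ▸ transl_le fun g _ x hx => ?_)
    have hall : (⊤ : Subgroup G) ≤ setFix ρ (Y ⊔ V0) := by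
      refine hsup.ge.trans (sup_le ((closure_le _).2 fun d hd => ?_) fun s hs => ?_)
      · have key : ∀ e : G, Odd (orderOf e) → ∀ u ∈ Y ⊔ V0, ρ e u ∈ Y ⊔ V0 := fun e he u hu => by
          rw [delt_apply ρ]
          exact mul_mem (mem_sup_left (mem_sup_left (subset_closure ⟨e, he, u, rfl⟩))) hu
        exact ⟨key d (hodd d hd), key d⁻¹ (by rw [orderOf_inv]; exact hodd d hd)⟩
      · have key : ∀ g ∈ (S : Subgroup G), Y ⊔ V0 ≤ (Y ⊔ V0).comap (ρ g : W ≃* W).toMonoidHom :=
          fun g hg => sup_le (fun u hu => mem_sup_left (hYinv g u hu))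
            fun u hu => mem_sup_right (apply_mem_of_setFix (hV0 hg) hu)
        exact ⟨fun u hu => key s hs hu, fun u hu => key _ (inv_mem hs) hu⟩
    exact apply_mem_of_setFix (hall (mem_top g)) (mem_sup_right hx)
  refine ⟨Y, W', hYinv, hW', le_sup_right, hWY, fun D hD h1 h2 => ?_, hnt, hnofix, ?_⟩
  · by_cases e : D = W'
    · exact Or.inl e
    · exact Or.inr (le_antisymm h2 (habove D hD h1 e))
  -- an element fixed by `S` modulo `W'`
  have hV0W' : ¬ V0 ≤ W' := fun h => hW'1 (le_trans le_top (hgen.ge.trans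
    (transl_le fun g _ x hx => hW' g x (h hx))))
  obtain ⟨Wq, _, _, q, G', _, _, π, ρ', hq, hqker, hπ, -, hact⟩ :=
    exists_section (ρ := ρ) (P := ⊤) (N := W') (fun _ _ _ => mem_top _) hW'
  let q' : W →* Wq := q.comp (Subgroup.topEquiv.symm : W ≃* (⊤ : Subgroup W)).toMonoidHom
  have hk : ∀ x : W, q' x = 1 ↔ x ∈ W' := fun x => hqker _
  have hc : ∀ (g : G) (x : W), ρ' (π g) (q' x) = q' (ρ g x) := fun g x => hact g _
  have hq2 : ∀ x : Wq, x * x = 1 := fun x => by
    obtain ⟨⟨y, hy⟩, rfl⟩ := hq x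
    rw [← map_mul, ← map_one q]
    exact congrArg q (Subtype.ext (h2 y))
  have hdelt : ∀ g x, delt ρ g x ∈ W' ↔ ρ' (π g) (q' x) = q' x := fun g x => by
    rw [← hk, delt, map_div, div_eq_one, hc]
  obtain ⟨x, hx, hx1, hxS⟩ := exists_fixed (ρ := ρ') hq2 (S.2.map π) (D := V0.map q') (by
      intro e
      exact hV0W' fun x hx => (hk x).1 (mem_bot.1 (e ▸ mem_map_of_mem q' hx))) (le_setFix (by
      rintro _ ⟨s, hs, rfl⟩ _ ⟨x, hx, rfl⟩
      exact ⟨ρ s x, apply_mem_of_setFix (hV0 hs) hx, (hc s x).symm⟩))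
  obtain ⟨w, hw, rfl⟩ := hx
  have hwS : ∀ s ∈ (S : Subgroup G), delt ρ s w ∈ W' := fun s hs =>
    (hdelt s w).2 (mem_fixOf.1 hxS _ (mem_map_of_mem π hs))
  refine ⟨w, ⟨hw, ?_⟩, fun h => hx1 ((hk w).2 h), hwS⟩
  have hmove : ∀ g, delt ρ g w ∈ Y := by
    have : (⊤ : Subgroup G) ≤ stabMod ρ Y hYinv w := hsup.ge.trans (sup_le
      ((closure_le _).2 fun d hd => mem_sup_left (subset_closure ⟨d, hodd d hd, w, rfl⟩))
      fun s hs => mem_sup_right (hwS s hs))
    exact fun g => this (mem_top g)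
  haveI := Fintype.ofFinite (G ⧸ (S : Subgroup G))
  let f : G ⧸ (S : Subgroup G) → Wq := fun c => Quotient.liftOn' c (fun g => ρ' (π g) (q' w))
    (fun a b hab => by
      have h1 := mem_fixOf.1 hxS _ (mem_map_of_mem π (QuotientGroup.leftRel_apply.1 hab))
      show ρ' (π a) (q' w) = ρ' (π b) (q' w)
      conv_lhs => rw [← h1]
      rw [← MulAut.mul_apply, ← map_mul, ← map_mul, mul_inv_cancel_left])
  have hfq : ∀ g : G, f (g : G ⧸ (S : Subgroup G)) = ρ' (π g) (q' w) := fun g => rfl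
  have hz : ∀ k, ρ' (π k) (∏ c, f c) = ∏ c, f c := by
    intro k
    rw [map_prod]
    refine Fintype.prod_equiv (MulAction.toPerm k) _ _ fun c => ?_
    induction c using QuotientGroup.induction_on with
    | _ g =>
      show ρ' (π k) (f (g : G ⧸ (S : Subgroup G))) = f ((k * g : G) : G ⧸ (S : Subgroup G))
      rw [hfq, hfq, map_mul, map_mul, MulAut.mul_apply]
  have hz1 : ∏ c, f c = 1 := by
    obtain ⟨⟨z, hz'⟩, hzq⟩ := hq (∏ c, f c)
    have hzz : q' z = ∏ c, f c := hzq
    rw [← hzz]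
    exact (hk z).2 (hnofix z fun g => (hdelt g z).2 (by rw [hzz, hz g]))
  have hmem : ∀ c, f c * q' w ∈ Y.map q' := by
    intro c
    induction c using QuotientGroup.induction_on with
    | _ g =>
      refine ⟨delt ρ g w, hmove g, ?_⟩
      rw [hfq, hc, delt, map_div, div_eq_mul_inv, inv_eq_of_mul_eq_one_right (hq2 _)]
  have hodd' : Odd (Fintype.card (G ⧸ (S : Subgroup G))) := by
    rw [← Nat.card_eq_fintype_card, ← Nat.not_even_iff_odd, even_iff_two_dvd]
    exact S.not_dvd_index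
  have hqw : q' w ∈ Y.map q' := by
    have := prod_mem (t := Finset.univ) fun c _ => hmem c
    rw [Finset.prod_mul_distrib, hz1, one_mul, Finset.prod_const, Finset.card_univ] at this
    obtain ⟨m, hm⟩ := hodd'
    rwa [hm, pow_succ, pow_mul, pow_two, hq2, one_pow, one_mul] at this
  obtain ⟨y, hy, hyw⟩ := hqw
  have : y / w ∈ W' := (hk _).1 (by rw [map_div, hyw, div_self'])
  have h3 := div_mem hy ((le_sup_right : W' ≤ Y) this)
  simpa using h3

end CfsgLib.FourFree
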