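import Cfsg.Agent.Lib.FourFree.Twist.Basic
import Cfsg.Agent.Lib.FourFree.Twist.Residual
import Cfsg.Agent.Lib.FourFree.Config.Points

/-!
# A twisted flag whose form lies below an irreducible section

The setting of the proof that there is no flag: `M` contains every proper overgroup of `X`,
`V₀ ≤ P` is `M`-invariant, fixed by `X`, with a translate outside `P`, and `Y / W'` is an irreducible
section meeting the image of `V₀`.  If the form of the flag lies in `W'` then `X` is quadratic on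
`Y / W'`, the coset bound gives `|X : O| ^ 2 ≤ |W : P|` for the part `O` trivial on the section, and
the form has to be fixed by the whole group, whence `O = 1`: too small for a flag.
-/

set_option autoImplicit false
set_option linter.style.haveILetI false

open Subgroup
open CfsgLib.Fusion (conjBy mem_conjBy conj_mem_conjBy conjBy_le_iff)
open CfsgLib.CFun (delt fixOf mem_fixOf delt_apply delt_mul_left delt_mul delt_one_right)

namespace CfsgLib.FourFree

universe u

variable {H W L V : Type u} [Group H] [CommGroup W] [Group L] [CommGroup V]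
  {ρ : H →* MulAut W} {X : Subgroup H} {P : Subgroup W} {σ : L →* MulAut V}

theorem Twist.sq_eq_one (hT : Twist ρ X P σ) (hρ : Function.Injective ρ) {x : H} (hx : x ∈ X) :
    x * x = 1 := by
  refine hρ (MulEquiv.ext fun w => ?_)
  rw [map_one, MulAut.one_apply]
  refine div_eq_one.1 (show delt ρ (x * x) w = 1 from ?_)
  rw [delt_mul ρ, delt_apply ρ x (delt ρ x w), mul_comm (delt ρ x (delt ρ x w)), ← mul_assoc,
    hT.two, one_mul, hT.bot x hx _ (hT.step x hx w), hT.mid x hx,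
    hT.twist_self _ (hT.top_mem w)]

/-- The map `x ↦ [φ x, a]` for a non-trivial top `a`. -/
theorem Twist.delt_φ_mul (hT : Twist ρ X P σ) {a : L} (ha : a ∈ hT.A) {x y : H} (hx : x ∈ X)
    (hy : y ∈ X) :
    delt σ a (hT.φ (x * y)) = delt σ a (hT.φ x) * delt σ a (hT.φ y) := by
  have h1 : delt σ a (hT.φ (x * y) * hT.φ x * hT.φ y) = 1 :=
    div_eq_one.2 (hT.fixC a ha _ (hT.φ_mul x hx y hy))
  rw [delt_mul_left, delt_mul_left, mul_assoc] at h1
  rw [eq_inv_of_mul_eq_one_left h1,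
    inv_eq_of_mul_eq_one_right (hT.twoV _)]

theorem Twist.delt_φ_inj (hT : Twist ρ X P σ) {a : L} (ha : a ∈ hT.A) (ha1 : a ≠ 1) {x : H}
    (hx : x ∈ X) (h : delt σ a (hT.φ x) = 1) : x = 1 :=
  hT.φ_inj x hx (hT.fix a ha ha1 _ (div_eq_one.1 h))

theorem Twist.card_X [Finite H] [Finite V] (hT : Twist ρ X P σ) {a : L} (ha : a ∈ hT.A)
    (ha1 : a ≠ 1) : Nat.card X = Nat.card hT.C := by
  refine le_antisymm ?_ ?_
  · refine Nat.card_le_card_of_injective
      (fun x : X => (⟨delt σ a (hT.φ x), hT.quad a ha _⟩ : hT.C)) fun x y e => ?_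
    have e' : delt σ a (hT.φ x) = delt σ a (hT.φ y) := congrArg Subtype.val e
    have h1 : delt σ a (hT.φ (x * y)) = 1 := by rw [hT.delt_φ_mul ha x.2 y.2, e', hT.twoV]
    have h3 : (x : H) * y = 1 := hT.delt_φ_inj ha ha1 (mul_mem x.2 y.2) h1
    have h4 : delt σ a (hT.φ (y * y)) = 1 := by rw [hT.delt_φ_mul ha y.2 y.2, hT.twoV]
    exact Subtype.ext ((eq_inv_of_mul_eq_one_left h3).trans
      (eq_inv_of_mul_eq_one_left (hT.delt_φ_inj ha ha1 (mul_mem y.2 y.2) h4)).symm)
  · have hidx : hT.C.index = Nat.card hT.C := by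
      refine Nat.eq_of_mul_eq_mul_left (Nat.card_pos (α := hT.C)) ?_
      rw [Subgroup.card_mul_index, hT.card]
    rw [← hidx, Subgroup.index_eq_card]
    refine Nat.card_le_card_of_surjective (fun x : X => (QuotientGroup.mk (hT.φ x) : V ⧸ hT.C))
      fun q => ?_
    induction q using QuotientGroup.induction_on with
    | _ v =>
      obtain ⟨x, hx, hxv⟩ := hT.φ_surj v
      refine ⟨⟨x, hx⟩, QuotientGroup.eq.2 ?_⟩
      rwa [inv_eq_of_mul_eq_one_right (hT.twoV _)]

/-- A subgroup containing `f (c, v)` for `c ∈ C` contains all values of the form. -/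
theorem Twist.f_mem_of_half [Finite V] (hT : Twist ρ X P σ) {D : Subgroup W}
    (h : ∀ c ∈ hT.C, ∀ v : V, hT.f c v ∈ D) (u v : V) : hT.f u v ∈ D := by
  have hinj : Function.Injective fun q : hT.C × hT.C => (q.1 : V) * σ hT.g q.2 := by
    rintro ⟨c, x⟩ ⟨c', x'⟩ e
    simp only at e
    have h1 : σ hT.g ((x : V) / x') = (c' : V) / c := by
      rw [map_div, div_eq_div_iff_mul_eq_mul, mul_comm, e]
    have h2 : (x : V) / x' = 1 :=
      hT.disj _ (div_mem x.2 x'.2) (h1 ▸ div_mem c'.2 c.2)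
    rw [h2, map_one, eq_comm, div_eq_one] at h1
    exact Prod.ext (Subtype.ext h1.symm) (Subtype.ext (div_eq_one.1 h2))
  obtain ⟨⟨c, c'⟩, hu⟩ := ((Nat.bijective_iff_injective_and_card _).2
    ⟨hinj, by rw [Nat.card_prod, hT.card]⟩).2 u
  simp only at hu
  rw [← hu, hT.f_symm, hT.f_mul]
  refine mul_mem (hT.f_symm c v ▸ h c c.2 v) ?_
  rw [hT.f_symm, show v = σ hT.g (σ hT.g⁻¹ v) from (apply_apply_inv _ _).symm, hT.f_inv]
  exact h c' c'.2 _

/-- If `β` maps into a subgroup of index two the elements of `O` pairing into it with all of `Q`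
have index at most `|Q : O|`. -/
theorem card_sq_le_of_pairing [Finite H] {O : Subgroup H} {K : Subgroup W}
    (hK : ∀ a b : W, a ∉ K → b ∉ K → a * b ∈ K) (hOX : O ≤ X) (β : H → H → W)
    (hl : ∀ x ∈ O, ∀ x' ∈ O, ∀ y ∈ X, β (x * x') y = β x y * β x' y)
    (hr : ∀ x ∈ O, ∀ y ∈ X, ∀ y' ∈ X, β x (y * y') = β x y * β x y')
    (hO : ∀ x ∈ O, ∀ y ∈ O, β x y ∈ K) :
    ∃ A : Subgroup H, A ≤ O ∧ (∀ x ∈ A, ∀ y ∈ X, β x y ∈ K) ∧
      Nat.card O * Nat.card O ≤ Nat.card A * Nat.card X := by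
  classical
  obtain ⟨Q, ⟨hOQ, hQX, A, hAO, hA, hcard⟩, hmax⟩ := (Set.toFinite
    {Q : Subgroup H | O ≤ Q ∧ Q ≤ X ∧ ∃ A : Subgroup H, A ≤ O ∧ (∀ x ∈ A, ∀ y ∈ Q, β x y ∈ K) ∧
      Nat.card O * Nat.card O ≤ Nat.card A * Nat.card Q}).exists_maximal
    ⟨O, le_rfl, hOX, O, le_rfl, hO, le_rfl⟩
  rcases eq_or_lt_of_le hQX with e | hlt
  · subst e
    exact ⟨A, hAO, hA, hcard⟩
  obtain ⟨y, hyX, hyQ⟩ := SetLike.exists_of_lt hlt
  exfalso
  have h1y : ∀ x ∈ O, β x 1 = 1 := fun x hx => by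
    have := hr x hx 1 (one_mem _) 1 (one_mem _)
    rw [mul_one] at this
    exact mul_eq_left.1 this.symm
  have h1x : ∀ z ∈ X, β 1 z = 1 := fun z hz => by
    have := hl 1 (one_mem _) 1 (one_mem _) z hz
    rw [mul_one] at this
    exact mul_eq_left.1 this.symm
  let B : Subgroup H :=
    { carrier := {x | x ∈ A ∧ β x y ∈ K}
      one_mem' := ⟨one_mem _, by rw [h1x y hyX]; exact one_mem _⟩
      mul_mem' := fun {a b} ha hb => ⟨mul_mem ha.1 hb.1, by
        rw [hl a (hAO ha.1) b (hAO hb.1) y hyX]; exact mul_mem ha.2 hb.2⟩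
      inv_mem' := fun {a} ha => ⟨inv_mem ha.1, by
        have := hl a (hAO ha.1) a⁻¹ (inv_mem (hAO ha.1)) y hyX
        rw [mul_inv_cancel, h1x y hyX] at this
        rw [eq_inv_of_mul_eq_one_right this.symm]
        exact inv_mem ha.2⟩ }
  have hAB : Nat.card A ≤ 2 * Nat.card B := by
    by_cases hall : A ≤ B
    · exact (card_le_of_le hall).trans (Nat.le_mul_of_pos_left _ two_pos)
    obtain ⟨a0, ha0, ha0B⟩ := SetLike.not_le_iff_exists.1 hall
    rw [show 2 * Nat.card B = Nat.card (Bool × B) by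
      rw [Nat.card_prod, Nat.card_eq_fintype_card (α := Bool), Fintype.card_bool]]
    refine Nat.card_le_card_of_injective (fun x : A => if hx : β (x : H) y ∈ K
      then (false, (⟨x, x.2, hx⟩ : B)) else (true, ⟨x * a0, mul_mem x.2 ha0, by
        rw [hl _ (hAO x.2) _ (hAO ha0) y hyX]
        exact hK _ _ hx fun h => ha0B ⟨ha0, h⟩⟩)) fun u v e => ?_
    simp only at e
    split_ifs at e <;> simp only [Prod.mk.injEq, Subtype.mk.injEq, Bool.false_eq_true,
      Bool.true_eq_false, false_and, true_and] at e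
    · exact Subtype.ext e
    · exact Subtype.ext (mul_right_cancel e)
  set Q2 := Q ⊔ zpowers y with hQ2
  have hQ2X : Q2 ≤ X := sup_le hQX (zpowers_le.2 hyX)
  have hQlt : Q < Q2 := lt_of_le_of_ne le_sup_left fun e =>
    hyQ (e ▸ mem_sup_right (mem_zpowers y))
  have hQcard : 2 * Nat.card Q ≤ Nat.card Q2 := by
    obtain ⟨t, ht⟩ := card_dvd_of_le hQlt.le
    rcases t with _ | _ | t
    · exact absurd ht (by simpa using (Nat.card_pos (α := Q2)).ne')
    · exact absurd (eq_of_le_of_card_ge hQlt.le (by rw [ht]; simp)) hQlt.ne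
    · rw [ht, mul_comm 2]; exact Nat.mul_le_mul_left _ (by omega)
  refine hQlt.not_ge (hmax ⟨hOQ.trans hQlt.le, hQ2X, B, fun x hx => hAO hx.1, fun x hx z hz => ?_,
    hcard.trans ?_⟩ hQlt.le)
  · let D : Subgroup H :=
      { carrier := {z | z ∈ X ∧ β x z ∈ K}
        one_mem' := ⟨one_mem _, by rw [h1y x (hAO hx.1)]; exact one_mem _⟩
        mul_mem' := fun {a b} ha hb => ⟨mul_mem ha.1 hb.1, by
          rw [hr x (hAO hx.1) a ha.1 b hb.1]; exact mul_mem ha.2 hb.2⟩
        inv_mem' := fun {a} ha => ⟨inv_mem ha.1, by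
          have := hr x (hAO hx.1) a ha.1 a⁻¹ (inv_mem ha.1)
          rw [mul_inv_cancel, h1y x (hAO hx.1)] at this
          rw [eq_inv_of_mul_eq_one_right this.symm]
          exact inv_mem ha.2⟩ }
    exact ((sup_le (fun q hq => ⟨hQX hq, hA x hx.1 q hq⟩) (zpowers_le.2 ⟨hyX, hx.2⟩) : Q2 ≤ D) hz).2
  · calc Nat.card A * Nat.card Q ≤ 2 * Nat.card B * Nat.card Q := Nat.mul_le_mul_right _ hAB
      _ = Nat.card B * (2 * Nat.card Q) := by ring
      _ ≤ Nat.card B * Nat.card Q2 := Nat.mul_le_mul_left _ hQcard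

variable [Finite H] [Finite W] [Finite V]

set_option maxHeartbeats 1000000 in
/-- Case (iia): the form lies below the section. -/
theorem Twist.false_of_f_le (hT : Twist ρ X P σ) (hρ : Function.Injective ρ) (hg : HG H)
    (S : Sylow 2 H) {M : Subgroup H} (hXS : X ≤ S) (hSM : (S : Subgroup H) ≤ M)
    (gen : ∀ h, h ∉ M → X ⊔ conjBy h X = ⊤)
    {V0 : Subgroup W} (hV0M : M ≤ setFix ρ V0) (hV0X : X ≤ ptFix ρ V0) (hV0P : V0 ≤ P)
    {h : H} {w0 : W} (hw0 : w0 ∈ V0) (hout : ρ h w0 ∉ P)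
    {Y W' : Subgroup W} (hY : ∀ g, ∀ u ∈ Y, ρ g u ∈ Y) (hW' : ∀ g, ∀ u ∈ W', ρ g u ∈ W')
    (hW'Y : W' ≤ Y)
    (hirr : ∀ D : Subgroup W, (∀ g, ∀ u ∈ D, ρ g u ∈ D) → W' ≤ D → D ≤ Y → D = W' ∨ D = Y)
    (hnofix : ∀ w : W, (∀ g, delt ρ g w ∈ W') → w ∈ W')
    {w : W} (hw : w ∈ V0 ⊓ Y) (hwW' : w ∉ W')
    (hF : ∀ u v, hT.f u v ∈ W')
    (hψ : ∀ p ∈ P, (∀ x ∈ X, delt ρ x p = 1) → hT.ψ p = 1) : False := by
  classical
  haveI : Fact (Nat.Prime 2) := ⟨Nat.prime_two⟩
  have hXM : X ≤ M := hXS.trans hSM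
  have hhM : h ∉ M := fun hm => hout (hV0P (apply_mem_of_setFix (hV0M hm) hw0))
  set a := hT.top (ρ h w0) with hadef
  have haA : a ∈ hT.A := hT.top_mem _
  have ha1 : a ≠ 1 := fun e => hout ((hT.top_eq _).1 e)
  have hover : ∀ K : Subgroup H, X ≤ K → K ≠ ⊤ → K ≤ M := fun K hXK hK k hk => by
    by_contra hkM
    exact hK (top_le_iff.1 ((gen k hkM).ge.trans
      (sup_le hXK (conjBy_le_iff.2 fun x hx => mul_mem (mul_mem hk (hXK hx)) (inv_mem hk)))))
  obtain ⟨Wq, _, _, q, G', _, _, π, ρ', hq, hqker, hπ, hρ', hact⟩ :=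
    exists_section (ρ := ρ) (P := Y) (N := W') hY hW'
  have hq2 : ∀ x : Wq, x * x = 1 := fun x => by
    obtain ⟨⟨y, hy⟩, rfl⟩ := hq x
    rw [← map_mul, ← map_one q]
    exact congrArg q (Subtype.ext (hT.two y))
  have htriv : ∀ x : Wq, (∀ g, ρ' g x = x) → x = 1 := by
    intro x hx
    obtain ⟨y, rfl⟩ := hq x
    refine (hqker y).2 (hnofix _ fun g => ?_)
    have h1 := hx (π g)
    rw [hact] at h1
    exact (hqker (⟨ρ g y, hY g y y.2⟩ / y)).1 (by rw [map_div, h1, div_self'])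
  have hWirr : ∀ D : Subgroup Wq, (∀ g, ∀ x ∈ D, ρ' g x ∈ D) → D ≠ ⊥ → D = ⊤ := by
    intro D hD hne
    have hD' : ∀ g, ∀ u ∈ (D.comap q).map Y.subtype, ρ g u ∈ (D.comap q).map Y.subtype := by
      rintro g _ ⟨x, hx, rfl⟩
      refine ⟨⟨ρ g x, hY g x x.2⟩, ?_, rfl⟩
      show q _ ∈ D
      rw [← hact]; exact hD _ _ hx
    rcases hirr _ hD' (fun u hu => ⟨⟨u, hW'Y hu⟩, (by
        show q ⟨u, hW'Y hu⟩ ∈ D
        rw [(hqker ⟨u, hW'Y hu⟩).2 hu]; exact one_mem D), rfl⟩) (map_subtype_le _) with e | e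
    · refine absurd ((Subgroup.eq_bot_iff_forall _).2 fun x hx => ?_) hne
      obtain ⟨y, rfl⟩ := hq x
      exact (hqker y).2 (e.le ⟨y, hx, rfl⟩)
    · refine (Subgroup.eq_top_iff' D).2 fun x => ?_
      obtain ⟨y, rfl⟩ := hq x
      obtain ⟨z, hz, hzy⟩ := e.ge y.2
      rw [← Subtype.ext hzy]; exact hz
  set B := X.map π with hB
  set C := fixOf ρ' B with hCdef
  set E0 : Subgroup Wq := ((V0 ⊓ Y).subgroupOf Y).map q with hE0
  have hE0C : E0 ≤ C := by
    rintro _ ⟨y, hy, rfl⟩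
    refine mem_fixOf.2 ?_
    rintro _ ⟨x, hx, rfl⟩
    rw [hact]
    exact congrArg q (Subtype.ext (hV0X hx _ hy.1))
  set e := q ⟨w, hw.2⟩ with he
  have heE0 : e ∈ E0 := mem_map_of_mem q (show (⟨w, hw.2⟩ : Y) ∈ (V0 ⊓ Y).subgroupOf Y from hw)
  have he1 : e ≠ 1 := fun h' => hwW' ((hqker _).1 h')
  have hkerM : π.ker ≤ M := by
    refine le_trans (fun g hg' => ?_) (hover ((ptFix ρ' (zpowers e)).comap π)
      (fun x hx => le_ptFix_iff.2 (zpowers_le.2 (hE0C heE0)) (mem_map_of_mem π hx)) fun h' =>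
        he1 (htriv e fun g => by
          obtain ⟨g, rfl⟩ := hπ g
          exact (show g ∈ (ptFix ρ' (zpowers e)).comap π from h' ▸ mem_top g) e (mem_zpowers e)))
    show π g ∈ ptFix ρ' (zpowers e)
    rw [MonoidHom.mem_ker.1 hg']; exact one_mem _
  -- a normal subgroup inside `M` meets `X` in the kernel
  have hcore : ∀ x ∈ X, x ∈ M.normalCore → x ∈ π.ker := by
    set N := M.normalCore with hN
    set S0 := (S : Subgroup H) ⊓ N with hS0
    have hSN : (S : Subgroup H) ≤ normalizer (S0 : Set H) := fun s hs' => by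
      refine Subgroup.mem_normalizer_iff.2 fun x => ⟨fun hx => ⟨
        (show s * x * s⁻¹ ∈ (S : Subgroup H) from mul_mem (mul_mem hs' hx.1) (inv_mem hs')),
        M.normalCore_normal.conj_mem x hx.2 s⟩, fun hx => ⟨?_, ?_⟩⟩
      · have h1 : s⁻¹ * (s * x * s⁻¹) * s ∈ (S : Subgroup H) :=
          mul_mem (mul_mem (inv_mem hs') hx.1) hs'
        rwa [show s⁻¹ * (s * x * s⁻¹) * s = x by group] at h1
      · simpa [mul_assoc] using M.normalCore_normal.conj_mem _ hx.2 s⁻¹
    have htop : normalizer (S0 : Set H) = ⊤ := by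
      by_contra hne
      have hle := hover _ (hXS.trans hSN) hne
      refine hhM ?_
      obtain ⟨c, hc, hcg⟩ := frattini_rel (S.2.to_le inf_le_left) inf_le_right
        (CfsgLib.Fusion.not_dvd_relIndex_inf_of_normal S N) (L := ⊤)
        (fun g _ x hx => M.normalCore_normal.conj_mem x hx g) (mem_top h)
      have := mul_mem (inv_mem (M.normalCore_le hc)) (hle hcg)
      simpa using this
    haveI hn : S0.Normal := Subgroup.normalizer_eq_top_iff.1 htop
    have hn' : (S0.map π).Normal := hn.map π hπ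
    obtain ⟨z, -, hz1, hz⟩ := exists_fixed (ρ := ρ') hq2 ((S.2.to_le inf_le_left).map π)
      (D := ⊤) (fun h' => he1 (mem_bot.1 (h' ▸ mem_top e))) (le_setFix fun _ _ _ _ => mem_top _)
    have hfixtop := hWirr (fixOf ρ' (S0.map π)) (fun g x hx => mem_fixOf.2 fun k hk => by
      have := mem_fixOf.1 hx _ (show g⁻¹ * k * g ∈ S0.map π by simpa using hn'.conj_mem k hk g⁻¹)
      calc ρ' k (ρ' g x) = ρ' g (ρ' (g⁻¹ * k * g) x) := by
            simp only [map_mul, MulAut.mul_apply, apply_apply_inv]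
        _ = ρ' g x := by rw [this]) (fun h' => hz1 (mem_bot.1 (h' ▸ hz)))
    intro x hxX hxN
    refine MonoidHom.mem_ker.2 (hρ' (MulEquiv.ext fun z => ?_))
    rw [map_one, MulAut.one_apply]
    exact mem_fixOf.1 (hfixtop ▸ mem_top z) _ (mem_map_of_mem π (show x ∈ S0 from ⟨hXS hxX, hxN⟩))
  have hM' : ∀ g, π g ∈ M.map π → g ∈ M := by
    rintro g ⟨m, hm, hmg⟩
    have : m⁻¹ * g ∈ π.ker := by rw [MonoidHom.mem_ker, map_mul, map_inv, hmg, inv_mul_cancel]
    simpa using mul_mem hm (hkerM this)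
  have hgen' : ∀ k, k ∉ M → B ⊔ conjBy (π k) B = ⊤ := fun k hk => by
    rw [hB, ← map_conjBy, ← Subgroup.map_sup, gen k hk, map_top_of_surjective π hπ]
  have hfixpair : ∀ k, k ∉ M → ∀ x : Wq, x ∈ C → x ∈ fixOf ρ' (conjBy (π k) B) → x = 1 :=
    fun k hk x h1 h2 => htriv x fun g => by
      have : (⊤ : Subgroup G') ≤ ptFix ρ' (zpowers x) := (hgen' k hk).ge.trans
        (sup_le (le_ptFix_iff.2 (zpowers_le.2 h1)) (le_ptFix_iff.2 (zpowers_le.2 h2)))
      exact this (mem_top g) x (mem_zpowers x)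
  have hquad : ∀ b ∈ B, ∀ x : Wq, delt ρ' b x ∈ C := by
    rintro _ ⟨x, hx, rfl⟩ z
    obtain ⟨y, rfl⟩ := hq z
    refine mem_fixOf.2 ?_
    rintro _ ⟨x', hx', rfl⟩
    rw [delt, hact, ← map_div, hact]
    refine div_eq_one.1 ?_
    rw [← map_div]
    refine (hqker _).2 ?_
    show delt ρ x' (delt ρ x (y : W)) ∈ W'
    rw [hT.bot x' hx' _ (hT.step x hx _)]
    exact hF _ _
  have hsup : ∀ k, k ∉ M → C ⊔ fixOf ρ' (conjBy (π k) B) = ⊤ := by
    intro k hk
    have hquadk : ∀ d ∈ conjBy (π k) B, ∀ x : Wq, delt ρ' d x ∈ fixOf ρ' (conjBy (π k) B) := by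
      intro d hd x
      rw [fixOf_conjBy]
      refine ⟨delt ρ' ((π k)⁻¹ * d * π k) (ρ' (π k)⁻¹ x), hquad _ (mem_conjBy.1 hd) _, ?_⟩
      simp only [delt, MulEquiv.coe_toMonoidHom, map_div, map_mul, MulAut.mul_apply,
        apply_apply_inv]
    have hle : (⊤ : Subgroup G') ≤ setFix ρ' (C ⊔ fixOf ρ' (conjBy (π k) B)) :=
      (hgen' k hk).ge.trans (sup_le
        (le_setFix fun b hb u hu => by
          rw [delt_apply ρ']; exact mul_mem (mem_sup_left (hquad b hb u)) hu)
        (le_setFix fun d hd u hu => by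
          rw [delt_apply ρ']; exact mul_mem (mem_sup_right (hquadk d hd u)) hu))
    exact hWirr _ (fun g x hx => apply_mem_of_setFix (hle (mem_top g)) hx)
      fun h' => he1 (mem_bot.1 (h' ▸ mem_sup_left (hE0C heE0)))
  have hcardC : Nat.card Wq = Nat.card C * Nat.card C := by
    have := card_sup_mul_inf C (fixOf ρ' (conjBy (π h) B))
    rw [hsup h hhM, show C ⊓ fixOf ρ' (conjBy (π h) B) = ⊥ from (Subgroup.eq_bot_iff_forall _).2
      fun x hx => hfixpair h hhM x hx.1 hx.2, Subgroup.card_bot, mul_one, Subgroup.card_top,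
      card_fixOf_conjBy] at this
    exact this
  have hsq : ∀ b ∈ B, b * b = 1 := by
    rintro _ ⟨x, hx, rfl⟩
    rw [← map_mul, hT.sq_eq_one hρ hx, map_one]
  have hs : Halves ρ' B (M.map π) E0 := by
    refine ⟨hq2, hg.quotient π hπ, hsq, hquad, ?_, map_mono hXM, ?_, hcardC, hE0C,
      fun h' => he1 (mem_bot.1 (h' ▸ heE0)), ?_⟩
    · rintro _ ⟨x, hx, rfl⟩ hb z hz
      have hxN : x ∉ M.normalCore := fun hN => hb (MonoidHom.mem_ker.1 (hcore x hx hN))
      obtain ⟨k, hk⟩ := not_forall.1 (show ¬ ∀ k : H, k * x * k⁻¹ ∈ M from hxN)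
      have hkM : k⁻¹ ∉ M := fun hm => hk (by
        simpa using mul_mem (mul_mem (inv_mem hm) (hXM hx)) hm)
      obtain ⟨u, hu, v, hv, huv⟩ := Subgroup.mem_sup.1 ((hsup k⁻¹ hkM).ge (mem_top z))
      have hav : ρ' (π x) v = v := by
        have hau := mem_fixOf.1 hu _ (mem_map_of_mem π hx)
        rw [← huv, map_mul, hau] at hz
        exact mul_left_cancel hz
      have hv1 : v = 1 := htriv v fun g => by
        have hD : conjBy (π k⁻¹) B ⊔ conjBy (π x) (conjBy (π k⁻¹) B) = ⊤ := by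
          have h1 : (conjBy k⁻¹ X ⊔ conjBy x (conjBy k⁻¹ X)).map π = ⊤ := by
            rw [sup_conjBy_conjBy k⁻¹ x X, inv_inv, gen _ hk, conjBy,
              map_top_of_surjective _ (MulAut.conj k⁻¹).surjective, map_top_of_surjective π hπ]
          rw [← h1, Subgroup.map_sup, map_conjBy, map_conjBy, map_conjBy]
        have : (⊤ : Subgroup G') ≤ ptFix ρ' (zpowers v) := by
          refine hD.ge.trans (sup_le (le_ptFix_iff.2 (zpowers_le.2 hv))
            (le_ptFix_iff.2 (zpowers_le.2 ?_)))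
          rw [fixOf_conjBy]
          exact ⟨v, hv, hav⟩
        exact this (mem_top g) v (mem_zpowers v)
      rw [← huv, hv1, mul_one]; exact hu
    · intro g hgM x hx hgx
      obtain ⟨k, rfl⟩ := hπ g
      have hk : k ∉ M := fun hm => hgM (mem_map_of_mem π hm)
      have := hfixpair k hk _ hgx (by rw [fixOf_conjBy]; exact ⟨x, hx, rfl⟩)
      simpa using congrArg (ρ' (π k)⁻¹) this
    · rintro _ ⟨m, hm, rfl⟩ _ ⟨y, hy, rfl⟩
      exact ⟨⟨ρ m y, hY m y y.2⟩, ⟨apply_mem_of_setFix (hV0M hm) hy.1, hY m y y.2⟩, (hact m y).symm⟩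
  have hbound : Nat.card B * Nat.card B ≤ P.index := by
    have h1 := hs.sq_card_le (g₀ := π h) (fun hm => hhM (hM' h hm)) (hE0C heE0) he1 Set.univ
      fun _ _ _ => trivial
    refine h1.trans ?_
    have h2 : Nat.card {c // c ∈ C ∧ c * ρ' (π h) e ∈ (Set.univ : Set Wq)} ≤ Nat.card C :=
      Nat.card_le_card_of_injective (fun c => ⟨c.1, c.2.1⟩) fun c d h' =>
        Subtype.ext (congrArg Subtype.val h' :)
    refine h2.trans ?_
    have h3 : C.index = Nat.card C := Nat.eq_of_mul_eq_mul_left (Nat.card_pos (α := C))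
      (by rw [Subgroup.card_mul_index, hcardC])
    rw [← h3, ← index_comap_of_surjective C hq]
    refine le_trans (Nat.le_of_dvd (Nat.pos_of_ne_zero index_ne_zero_of_finite)
      (index_dvd_of_le (show P.subgroupOf Y ≤ C.comap q from ?_))) ?_
    · intro y hy
      refine mem_fixOf.2 ?_
      rintro _ ⟨x, hx, rfl⟩
      rw [hact]
      refine div_eq_one.1 ?_
      rw [← map_div]
      refine (hqker _).2 ?_
      show delt ρ x (y : W) ∈ W'
      rw [hT.bot x hx (y : W) hy]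
      exact hF _ _
    · show P.relIndex Y ≤ P.index
      exact (relIndex_le_of_le_right le_top (by rw [relIndex_top_right]; exact index_ne_zero_of_finite)).trans
        (relIndex_top_right P).le
  set O := X ⊓ π.ker with hO
  have hBO : Nat.card B * Nat.card O = Nat.card X := by
    rw [hB, hO, ← relIndex_ker, ← Subgroup.inf_relIndex_left X, mul_comm,
      CfsgLib.CFun.card_mul_relIndex' inf_le_left]
  -- the translate of `V₀` and the fixed points of the whole group
  set U := V0.map (ρ h : W ≃* W).toMonoidHom with hU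
  have hUfix : ∀ z ∈ U, ∀ d ∈ conjBy h X, ρ d z = z := by
    rintro _ ⟨v, hv, rfl⟩ d hd
    have := hV0X (mem_conjBy.1 hd) v hv
    show ρ d (ρ h v) = ρ h v
    calc ρ d (ρ h v) = ρ h (ρ (h⁻¹ * d * h) v) := by
          simp only [map_mul, MulAut.mul_apply, apply_apply_inv]
      _ = ρ h v := by rw [this]
  have hUO : ∀ x ∈ O, ∀ z ∈ U, delt ρ x z ∈ U := by
    rintro x hx _ ⟨v, hv, rfl⟩
    have hm : h⁻¹ * x * h ∈ M := hkerM (by
      simpa using (MonoidHom.normal_ker π).conj_mem x hx.2 h⁻¹)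
    refine div_mem ⟨ρ (h⁻¹ * x * h) v, apply_mem_of_setFix (hV0M hm) hv, ?_⟩ ⟨v, hv, rfl⟩
    show ρ h (ρ (h⁻¹ * x * h) v) = ρ x (ρ h v)
    simp only [map_mul, MulAut.mul_apply, apply_apply_inv]
  set J := fixOf ρ (⊤ : Subgroup H) with hJ
  have hfixJ : ∀ z, (∀ x ∈ X, ρ x z = z) → z ∈ U → z ∈ J := by
    intro z h1 h2
    refine mem_fixOf.2 fun g _ => ?_
    have : (⊤ : Subgroup H) ≤ ptFix ρ (zpowers z) := (gen h hhM).ge.trans (sup_le
      (le_ptFix_iff.2 (zpowers_le.2 (mem_fixOf.2 h1)))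
      (le_ptFix_iff.2 (zpowers_le.2 (mem_fixOf.2 (hUfix z h2)))))
    exact this (mem_top g) z (mem_zpowers z)
  set β : H → H → W := fun x y => hT.f (delt σ a (hT.φ x)) (hT.φ y) with hβ
  have hβdelt : ∀ x ∈ X, ∀ y ∈ X, delt ρ y (delt ρ x (ρ h w0)) = β x y := fun x hx y hy => by
    rw [hT.bot y hy _ (hT.step x hx _), hT.mid x hx]
  have hθ : ∀ x, delt σ a (hT.φ x) ∈ hT.C := fun x => hT.quad a haA _
  by_cases hFJ : ∀ u v, hT.f u v ∈ J
  · -- `O` is trivial
    have hObot : O = ⊥ := (Subgroup.eq_bot_iff_forall _).2 fun x hx => by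
      set z := delt ρ x (ρ h w0) with hz
      have hzU : z ∈ U := hUO x hx _ ⟨w0, hw0, rfl⟩
      have hJfix : ∀ g, ∀ u ∈ J, ρ g u = u := fun g u hu => mem_fixOf.1 hu g (mem_top g)
      have hJinv : ∀ g, ∀ u ∈ J, ρ g u ∈ J := fun g u hu => by rw [hJfix g u hu]; exact hu
      have hall : ∀ g, delt ρ g z ∈ J := fun g => ((gen h hhM).ge.trans (sup_le
        (fun y hy => show delt ρ y z ∈ J by rw [hβdelt x hx.1 y hy]; exact hFJ _ _)
        (fun d hd => show delt ρ d z ∈ J by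
          rw [delt, hUfix z hzU d hd, div_self']; exact one_mem _) :
          X ⊔ conjBy h X ≤ stabMod ρ J hJinv z)) (mem_top g)
      let δ : H →* W := MonoidHom.mk' (fun g => delt ρ g z) fun g k => by
        rw [delt_mul ρ, hJfix g _ (hall k)]
      have hψz : hT.ψ z = 1 := hψ z (hT.step x hx.1 _) fun y hy => by
        have h1 : δ (h * y * h⁻¹) = 1 := by
          show delt ρ _ z = 1
          rw [delt, hUfix z hzU _ (conj_mem_conjBy hy), div_self']
        rw [map_mul, map_mul, map_inv, mul_comm (δ h), mul_inv_cancel_right] at h1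
        exact h1
      refine hT.delt_φ_inj haA ha1 hx.1 ?_
      rw [← hψz, hz, hT.mid x hx.1]
    rw [hObot, Subgroup.card_bot, mul_one] at hBO
    have hV : (⊤ : Subgroup V) ≠ ⊥ := fun h' => hT.ne_bot (le_bot_iff.1 (h' ▸ le_top))
    have hbig := hT.big ⊤ (fun _ _ _ => mem_top _) hV
    rw [top_inf_eq, ← hT.card_X haA ha1, ← hBO] at hbig
    have h1 : 1 < Nat.card B := by
      rw [hBO, hT.card_X haA ha1]
      exact (Subgroup.one_lt_card_iff_ne_bot _).2 hT.ne_bot
    have h2 : Nat.card B * Nat.card B ≤ Nat.card B := hbound.trans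
      (le_trans (Nat.le_mul_self _) (by rwa [← pow_two]))
    nlinarith
  · push Not at hFJ
    obtain ⟨u0, v0, hz⟩ := hFJ
    obtain ⟨K, ⟨hJK, hzK⟩, hKmax⟩ := (Set.toFinite
      {K : Subgroup W | J ≤ K ∧ hT.f u0 v0 ∉ K}).exists_maximal ⟨J, le_rfl, hz⟩
    have hK : ∀ b c : W, b ∉ K → c ∉ K → b * c ∈ K := by
      have key : ∀ b, b ∉ K → b * hT.f u0 v0 ∈ K := by
        intro b hb
        have hmem : hT.f u0 v0 ∈ K ⊔ zpowers b := by
          by_contra h'
          exact hb (hKmax ⟨hJK.trans le_sup_left, h'⟩ le_sup_left (mem_sup_right (mem_zpowers b)))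
        obtain ⟨k, hk, c, hc, hkc⟩ := Subgroup.mem_sup.1 hmem
        have hcb : c = 1 ∨ c = b := by
          obtain ⟨i, rfl⟩ := mem_zpowers_iff.1 hc
          rcases Int.even_or_odd i with ⟨j, rfl⟩ | ⟨j, rfl⟩
          · left; rw [zpow_add, hT.two]
          · right
            rw [zpow_add, zpow_one, two_mul, zpow_add, hT.two, one_mul]
        rcases hcb with e' | e'
        · exact absurd (by rw [← hkc, e', mul_one]; exact hk) hzK
        · rw [← hkc, e', mul_left_comm, hT.two, mul_one]; exact hk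
      intro b c hb hc
      have h1 := mul_mem (key b hb) (key c hc)
      rwa [mul_mul_mul_comm, hT.two, mul_one] at h1
    have hlin : ∀ c ∈ hT.C, ∀ y ∈ X, ∀ y' ∈ X,
        hT.f c (hT.φ (y * y')) = hT.f c (hT.φ y) * hT.f c (hT.φ y') := by
      intro c hc y hy y' hy'
      have h1 := hT.f_isotropic c hc _ (hT.φ_mul y hy y' hy')
      rw [hT.f_mul, hT.f_mul, mul_assoc] at h1
      rw [eq_inv_of_mul_eq_one_left h1, inv_eq_of_mul_eq_one_right (hT.two _)]
    obtain ⟨A, hAO, hA, hcard⟩ := card_sq_le_of_pairing (X := X) (O := O) hK inf_le_left β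
      (fun x hx x' hx' y _ => by
        simp only [hβ]
        rw [hT.delt_φ_mul haA hx.1 hx'.1, hT.f_symm, hT.f_mul, hT.f_symm _ (hT.φ y),
          hT.f_symm _ (hT.φ y)])
      (fun x _ y hy y' hy' => hlin _ (hθ x) y hy y' hy')
      (fun x hx y hy => hJK (hfixJ _ (fun x' hx' => hT.f_fix x' hx' _ _) (by
        show β x y ∈ U
        rw [← hβdelt x hx.1 y hy.1]; exact hUO y hy _ (hUO x hx _ ⟨w0, hw0, rfl⟩))))
    let R : Subgroup V :=
      { carrier := {v | ∀ u, hT.f v u ∈ K}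
        one_mem' := fun u => by
          have := hT.f_mul u 1 1
          rw [mul_one] at this
          rw [hT.f_symm, mul_eq_left.1 this.symm]; exact one_mem _
        mul_mem' := fun {v v'} hv hv' u => by
          rw [hT.f_symm, hT.f_mul]
          exact mul_mem (hT.f_symm v u ▸ hv u) (hT.f_symm v' u ▸ hv' u)
        inv_mem' := fun {v} hv u => by
          rw [inv_eq_of_mul_eq_one_right (hT.twoV v)]; exact hv u }
    have hrad := hT.rad_big K ⟨u0, v0, hzK⟩ R fun v => Iff.rfl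
    have hAR : Nat.card A ≤ Nat.card (R ⊓ hT.C : Subgroup V) := by
      refine Nat.card_le_card_of_injective (fun x : A => ⟨delt σ a (hT.φ x), fun u => ?_, hθ x⟩)
        fun x y h' => ?_
      · obtain ⟨y, hy, hyu⟩ := hT.φ_surj u
        have h1 := hT.f_isotropic _ (hθ (x : H)) _ hyu
        rw [hT.f_mul] at h1
        rw [eq_inv_of_mul_eq_one_right h1, inv_eq_of_mul_eq_one_right (hT.two _)]
        exact hA x x.2 y hy
      · have e' : delt σ a (hT.φ x) = delt σ a (hT.φ y) := congrArg Subtype.val h'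
        have hxy : (x : H) * y = 1 := hT.delt_φ_inj haA ha1
          (mul_mem (hAO x.2).1 (hAO y.2).1)
          (by rw [hT.delt_φ_mul haA (hAO x.2).1 (hAO y.2).1, e', hT.twoV])
        exact Subtype.ext ((eq_inv_of_mul_eq_one_left hxy).trans
          (inv_eq_of_mul_eq_one_right (hT.sq_eq_one hρ (hAO y.2).1)))
    have hRC : Nat.card (R ⊓ hT.C : Subgroup V) * R.relIndex hT.C = Nat.card hT.C := by
      rw [← Subgroup.inf_relIndex_right, CfsgLib.CFun.card_mul_relIndex' inf_le_right]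
    rw [← hT.card_X haA ha1, ← hBO] at hRC
    rw [← hBO] at hcard
    have hOpos : 0 < Nat.card O := Nat.card_pos
    have hApos : 0 < Nat.card A := Nat.card_pos
    have hidx : 0 < P.index := Nat.pos_of_ne_zero index_ne_zero_of_finite
    -- `relIndex ≤ |X : O| ^ 2`
    have h4 : Nat.card A * R.relIndex hT.C ≤ Nat.card B * Nat.card O :=
      (Nat.mul_le_mul_right _ hAR).trans hRC.le
    have h5 : R.relIndex hT.C * (Nat.card O * Nat.card O) ≤
        Nat.card B * Nat.card B * (Nat.card O * Nat.card O) :=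
      calc R.relIndex hT.C * (Nat.card O * Nat.card O)
          ≤ R.relIndex hT.C * (Nat.card A * (Nat.card B * Nat.card O)) :=
            Nat.mul_le_mul_left _ hcard
        _ = Nat.card A * R.relIndex hT.C * (Nat.card B * Nat.card O) := by ring
        _ ≤ Nat.card B * Nat.card O * (Nat.card B * Nat.card O) := Nat.mul_le_mul_right _ h4
        _ = Nat.card B * Nat.card B * (Nat.card O * Nat.card O) := by ring
    have h6 := Nat.le_of_mul_le_mul_right h5 (Nat.mul_pos hOpos hOpos)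
    have h7 := hrad.trans (h6.trans hbound)
    nlinarith [Nat.le_mul_self P.index]

end CfsgLib.FourFree
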